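import Groth.Agent.FibDepth.RegBiequi
import Groth.Agent.Catenary.LocalDim
import Groth.Agent.Catenary.Jacobson
import Groth.Agent.SerrePn.ClosedDepth
import Groth.Agent.ModDesc.Iso
import Groth.Agent.CMFlat.Quotient
import Groth.Agent.CotT.RegQuot
import Groth.Agent.S0603

/-!
# Rectified depth over a regular Jacobson base
-/

set_option autoImplicit false
set_option linter.style.haveILetI false
set_option backward.isDefEq.respectTransparency false

universe u

open CategoryTheory CategoryTheory.Limits AlgebraicGeometry Topology TopologicalSpace IsLocalRing TensorProduct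

namespace Groth.Agent.RectDepth

open Groth.Agent.DimFormula Groth.Agent.Catenary Groth.Agent.Unibranch

variable {X S : Scheme.{u}}

theorem isUniversallyCatenary_of_regular (R : Type u) [CommRing R] [IsRegularLocalRing R] :
    CAlg.IsUniversallyCatenary R := by
  haveI := CotT.isRegularRing_of_local R
  haveI : LocCoh.IsCohenMacaulayRing R :=
    { isCohenMacaulayLocalRing_localization := fun p _ => by
        haveI : IsRegularLocalRing (Localization.AtPrime p) := inferInstance
        exact CMFlat.isCohenMacaulayLocalRing_of_isRegularLocalRing _ }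
  exact S0603.result R

/-- Constant distances to closed points pass to schemes locally of finite type. -/
theorem closedDim_of_lft [IsLocallyNoetherian S] [JacobsonSpace S] (hS : ClosedDim S)
    (h2 : ∀ s : S, CAlg.IsUniversallyCatenary (S.presheaf.stalk s)) (p : X ⟶ S) [LocallyOfFiniteType p] :
    ClosedDim X := fun ξ => by
  obtain ⟨D, t, -, -, h⟩ := closedDim_lft hS h2 p ξ
  exact ⟨D + t, h⟩

theorem dim_closure_openImm {W : Scheme.{u}} [IsLocallyNoetherian X] [JacobsonSpace X] (hX : ClosedDim X)
    (j : W ⟶ X) [IsOpenImmersion j] (w : W) :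
    topologicalKrullDim ↥(closure ({w} : Set W)) = topologicalKrullDim ↥(closure ({j w} : Set X)) := by
  obtain ⟨D, hD⟩ := hX (j w)
  haveI : JacobsonSpace W := LocallyOfFiniteType.jacobsonSpace j
  rw [dim_closure hD]
  refine dim_closure fun s hs hws => ?_
  obtain ⟨hle, g, hg, hg0, hgl⟩ := hD (j s) (j.closePoints_subset_preimage_closedPoints hs) (hws.map j.continuous)
  constructor
  · intro n c hc hc0 hcl
    exact hle n (fun i => j (c i)) (fun i => ⟨(hc i).1.map j.continuous, fun e => (hc i).2 (j.isEmbedding.injective e)⟩)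
      (hc0.map j.continuous) (congrArg j hcl)
  · have hgW : ∀ i, g i ∈ Set.range j := fun i =>
      (hgl ▸ specializes_last hg i).mem_open j.isOpenEmbedding.isOpen_range ⟨s, rfl⟩
    choose c hc using hgW
    refine ⟨c, fun i => ⟨?_, fun e => (hg i).2 (by rw [← hc, ← hc, e])⟩, ?_, j.isEmbedding.injective ((hc _).trans hgl)⟩
    · rw [← j.isEmbedding.isInducing.specializes_iff, hc, hc]
      exact (hg i).1
    · rw [← j.isEmbedding.isInducing.specializes_iff, hc]
      exact hg0

theorem depth_openImm {W : Scheme.{u}} [IsLocallyNoetherian X] [IsLocallyNoetherian W] (j : W ⟶ X) [IsOpenImmersion j]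
    (F : X.Modules) (hF : Coh.IsCoh F) (w : W) :
    LocCoh.depth (W.presheaf.stalk w) (((Scheme.Modules.pullback j).obj F).presheaf.stalk w) =
      LocCoh.depth (X.presheaf.stalk (j w)) (F.presheaf.stalk (j w)) := by
  let R := X.presheaf.stalk (j w)
  let L := W.presheaf.stalk w
  let N : Type u := F.presheaf.stalk (j w)
  let T : Type u := ((Scheme.Modules.pullback j).obj F).presheaf.stalk w
  letI : Algebra R L := (j.stalkMap w).hom.toAlgebra
  have hb : Function.Bijective (algebraMap R L) :=
    ((ConcreteCategory.isIso_iff_bijective (j.stalkMap w)).mp inferInstance)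
  let eP : T ≃ₗ[L] L ⊗[R] N := ((KFlat.pullStalkIso j w).app F).toLinearEquiv
  letI : Module R T := Module.compHom T (algebraMap R L)
  haveI : IsScalarTower R L T := IsScalarTower.of_algebraMap_smul fun _ _ => rfl
  let eL : R ≃ₗ[R] L := LinearEquiv.ofBijective (Algebra.linearMap R L) hb
  let e : T ≃ₗ[R] N := (eP.restrictScalars R).trans
    ((TensorProduct.congr eL.symm (LinearEquiv.refl R N)).trans (TensorProduct.lid R N))
  haveI : Module.Finite R N := RegDual.finite_stalk hF (j w)
  haveI : Module.Finite R T := Module.Finite.equiv e.symm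
  rw [← LocH.depth_eq_of_surjective hb.2 T]
  exact LocH.idealDepth_congr e _

/-- The function whose semicontinuity is at stake. -/
noncomputable def rdepth (F : X.Modules) (x : X) : WithBot ℕ∞ :=
  ((LocCoh.depth ↑(X.presheaf.stalk x) ↑(F.presheaf.stalk x) : ℕ∞) : WithBot ℕ∞) +
    topologicalKrullDim ↥(closure ({x} : Set X))

theorem rdepth_openImm {W : Scheme.{u}} [IsLocallyNoetherian X] [IsLocallyNoetherian W] [JacobsonSpace X]
    (hX : ClosedDim X) (j : W ⟶ X) [IsOpenImmersion j] (F : X.Modules) (hF : Coh.IsCoh F) (w : W) :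
    rdepth ((Scheme.Modules.pullback j).obj F) w = rdepth F (j w) := by
  rw [rdepth, rdepth, depth_openImm j F hF w, dim_closure_openImm hX j w]

theorem rdepth_closedImm {P : Scheme.{u}} [IsLocallyNoetherian X] [IsLocallyNoetherian P] (i : X ⟶ P)
    [IsClosedImmersion i] (F : X.Modules) (hF : Coh.IsCoh F) (x : X) :
    rdepth ((Scheme.Modules.pushforward i).obj F) (i x) = rdepth F x := by
  have e : closure ({i x} : Set P) = i '' closure ({x} : Set X) := by
    rw [← Set.image_singleton]; exact i.isClosedEmbedding.closure_image_eq _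
  rw [rdepth, rdepth, SerrePn.depth_push i hF x, e,
    (IsHomeomorph.topologicalKrullDim_eq _ (i.isEmbedding.homeomorphImage (closure {x})).isHomeomorph).symm]

/-- Semicontinuity on an irreducible regular noetherian scheme with constant distances. -/
theorem isOpen_of_irreducible (P : Scheme.{u}) [IsNoetherian P] [JacobsonSpace P] [PreirreducibleSpace P]
    (hP : ClosedDim P) (hreg : ∀ z : P, IsRegularLocalRing ↑(P.presheaf.stalk z)) (G : P.Modules) (hG : Coh.IsCoh G)
    (n : ℕ) : IsOpen {z : P | (n : WithBot ℕ∞) ≤ rdepth G z} := by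
  rcases isEmpty_or_nonempty P with he | hne
  · exact isOpen_discrete_of_isEmpty he _
  haveI : IrreducibleSpace P := ⟨inferInstance⟩
  have huniv : ∀ C ∈ irreducibleComponents (P : Type u), C = Set.univ := fun C hC =>
    Set.univ_subset_iff.1 (hC.2 (IrreducibleSpace.isIrreducible_univ P) (Set.subset_univ C))
  refine FibDepth.isOpen_le_rectDepth P hreg ?_ (fun C hC => ?_) (fun y T hT hTi hy => ?_) G hG n
  · obtain ⟨D, hD⟩ := hP (genericPoint P)
    rw [← IsHomeomorph.topologicalKrullDim_eq _ (Homeomorph.Set.univ (P : Type u)).isHomeomorph,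
      show (Set.univ : Set P) = closure {genericPoint P} from (genericPoint_spec P).def.symm, dim_closure hD]
    exact WithBot.coe_lt_coe.2 (ENat.natCast_lt_top D)
  · rw [huniv C hC]
    exact IsHomeomorph.topologicalKrullDim_eq _ (Homeomorph.Set.univ (P : Type u)).isHomeomorph
  · have h := localDim_eq hP (fun s => isCatenary_of_isUniversallyCatenary (@isUniversallyCatenary_of_regular _ _ (hreg s))) hT hy
    rw [← h.1]
    have hTsp : IrreducibleSpace ↥T :=
      { isPreirreducible_univ := (isPreirreducible_iff_preimage_val_univ_of hTi.isPreirreducible)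
        toNonempty := hTi.nonempty.to_subtype }
    rw [← h.2.2 Set.univ isOpen_univ trivial fun C hC hyC => absurd (by
      rw [Set.univ_subset_iff.1 (hC.2 (IrreducibleSpace.isIrreducible_univ ↥T) (Set.subset_univ C))]
      trivial) hyC, Set.univ_inter]
where
  isOpen_discrete_of_isEmpty {α : Type u} [TopologicalSpace α] (he : IsEmpty α) (s : Set α) : IsOpen s := by
    rw [show s = ∅ from Set.eq_empty_of_isEmpty s]
    exact isOpen_empty
  isPreirreducible_iff_preimage_val_univ_of {α : Type u} [TopologicalSpace α] {T : Set α} (h : IsPreirreducible T) :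
      IsPreirreducible (Set.univ : Set ↥T) := by
    haveI := (isPreirreducible_iff_preirreducibleSpace (s := T)).1 h
    exact PreirreducibleSpace.isPreirreducible_univ

/-- An irreducible open neighbourhood in a noetherian scheme with integral local rings. -/
theorem exists_irreducible_nhd (P : Scheme.{u}) [IsNoetherian P] (x : P) [IsDomain (P.presheaf.stalk x)] :
    ∃ U : P.Opens, x ∈ U ∧ IsPreirreducible (U : Set P) := by
  obtain ⟨C, hC, -, hCi, hxC, hgen⟩ := FibDepth.exists_component_forall P x
  have hfin : ({D ∈ irreducibleComponents (P : Type u) | x ∉ D}).Finite :=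
    NoetherianSpace.finite_irreducibleComponents.subset fun _ h => h.1
  let U : P.Opens := ⟨(⋃₀ {D ∈ irreducibleComponents (P : Type u) | x ∉ D})ᶜ,
    (by rw [Set.sUnion_eq_biUnion]; exact hfin.isClosed_biUnion fun D hD => isClosed_of_mem_irreducibleComponents D hD.1 : IsClosed (⋃₀ {D ∈ irreducibleComponents (P : Type u) | x ∉ D})).isOpen_compl⟩
  have hsub : (U : Set P) ⊆ C := fun z hz => by
    have hzD := mem_irreducibleComponent (x := z)
    have hD := irreducibleComponent_mem_irreducibleComponents z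
    have hxD : x ∈ irreducibleComponent z := by
      by_contra h
      exact hz ⟨_, ⟨hD, h⟩, hzD⟩
    obtain ⟨θ, hθ⟩ := QuasiSober.sober hD.1 isClosed_irreducibleComponent
    have hθC : θ ∈ C := hgen θ (hθ.specializes hxD)
    rw [← hθ.def] at hzD
    exact closure_minimal (Set.singleton_subset_iff.2 hθC) (isClosed_of_mem_irreducibleComponents C hC) hzD
  refine ⟨U, fun ⟨D, ⟨_, hxD⟩, hx⟩ => hxD hx, fun u v hu hv hUu hUv => ?_⟩
  obtain ⟨z, -, ⟨hzU, hzu⟩, -, hzv⟩ := hCi.2 ((U : Set P) ∩ u) ((U : Set P) ∩ v) (U.2.inter hu) (U.2.inter hv)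
    (hUu.mono fun z hz => ⟨hsub hz.1, hz⟩) (hUv.mono fun z hz => ⟨hsub hz.1, hz⟩)
  exact ⟨z, hzU, hzu, hzv⟩

/-- The rectified depth is lower semicontinuous over a regular Jacobson base with constant distances. -/
theorem isOpen_le_rdepth [IsLocallyNoetherian S] [JacobsonSpace S] (hS : ClosedDim S)
    (hreg : ∀ s : S, IsRegularLocalRing ↑(S.presheaf.stalk s)) (g : X ⟶ S) [LocallyOfFiniteType g]
    (F : X.Modules) (hF : Coh.IsCoh F) (n : ℕ) : IsOpen {x : X | (n : WithBot ℕ∞) ≤ rdepth F x} := by
  have huc : ∀ s : S, CAlg.IsUniversallyCatenary (S.presheaf.stalk s) := fun s => by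
    haveI := hreg s; exact isUniversallyCatenary_of_regular _
  haveI : IsLocallyNoetherian X := LocallyOfFiniteType.isLocallyNoetherian g
  haveI : JacobsonSpace X := LocallyOfFiniteType.jacobsonSpace g
  have hX := closedDim_of_lft hS huc g
  refine isOpen_iff_forall_mem_open.2 fun x hx => ?_
  obtain ⟨V, W, hV, hW, hxW, e, -⟩ := Unibranch.exists_chart_le g (U := ⊤) (x := x) trivial
  letI : Algebra Γ(S, V) Γ(X, W) := (g.appLE V W e).hom.toAlgebra
  haveI : Algebra.FiniteType Γ(S, V) Γ(X, W) := g.finiteType_appLE hV hW e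
  haveI : IsNoetherianRing Γ(S, V) := IsLocallyNoetherian.component_noetherian ⟨V, hV⟩
  obtain ⟨m, π, hπ⟩ := Algebra.FiniteType.iff_quotient_mvPolynomial''.1 ‹Algebra.FiniteType Γ(S, V) Γ(X, W)›
  haveI : IsRegularRing Γ(S, V) := isRegularRing_iff.2 fun p _ => by
    haveI := hreg (hV.fromSpec ⟨p, inferInstance⟩)
    letI := TopCat.Presheaf.algebra_section_stalk S.presheaf
      (⟨hV.fromSpec ⟨p, inferInstance⟩, hV.range_fromSpec.le ⟨_, rfl⟩⟩ : V)
    haveI := hV.isLocalization_stalk' ⟨p, inferInstance⟩ (hV.range_fromSpec.le ⟨_, rfl⟩)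
    exact IsRegularLocalRing.of_ringEquiv
      (IsLocalization.algEquiv p.primeCompl (S.presheaf.stalk (hV.fromSpec ⟨p, inferInstance⟩))
        (Localization.AtPrime p)).toRingEquiv
  let P : Scheme.{u} := Spec (CommRingCat.of (MvPolynomial (Fin m) Γ(S, V)))
  haveI : IsRegularRing (MvPolynomial (Fin m) Γ(S, V)) := inferInstance
  have hPreg : ∀ z : P, IsRegularLocalRing ↑(P.presheaf.stalk z) := fun z => by
    haveI : IsRegularLocalRing (Localization.AtPrime (PrimeSpectrum.asIdeal z)) := inferInstance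
    exact IsRegularLocalRing.of_ringEquiv
      (IsLocalization.algEquiv (PrimeSpectrum.asIdeal z).primeCompl (Localization.AtPrime (PrimeSpectrum.asIdeal z))
        ((Spec.structureSheaf (MvPolynomial (Fin m) Γ(S, V))).presheaf.stalk z)).toRingEquiv
  let p : P ⟶ S := Spec.map (CommRingCat.ofHom (MvPolynomial.C (σ := Fin m) (R := Γ(S, V)))) ≫ hV.fromSpec
  haveI : LocallyOfFiniteType (Spec.map (CommRingCat.ofHom (MvPolynomial.C (σ := Fin m) (R := Γ(S, V))))) :=
    (HasRingHomProperty.Spec_iff (P := @LocallyOfFiniteType)).mpr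
      (RingHom.finiteType_algebraMap.mpr (inferInstance : Algebra.FiniteType Γ(S, V) (MvPolynomial (Fin m) Γ(S, V))))
  have hP := closedDim_of_lft hS huc p
  haveI : JacobsonSpace P := LocallyOfFiniteType.jacobsonSpace p
  haveI : IsClosedImmersion (Spec.map (CommRingCat.ofHom π.toRingHom)) :=
    IsClosedImmersion.spec_of_surjective _ hπ
  let i : W.toScheme ⟶ P := hW.isoSpec.hom ≫ Spec.map (CommRingCat.ofHom π.toRingHom)
  let w₀ : W.toScheme := ⟨x, hxW⟩
  haveI := hPreg (i w₀)
  haveI : IsDomain (P.presheaf.stalk (i w₀)) := RegLoc.isDomain _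
  obtain ⟨U, hxU, hU⟩ := exists_irreducible_nhd P (i w₀)
  haveI : CompactSpace U.toScheme := isCompact_iff_compactSpace.mp (NoetherianSpace.isCompact (U : Set P))
  haveI : IsNoetherian U.toScheme := ⟨⟩
  haveI : PreirreducibleSpace U.toScheme := isPreirreducible_iff_preirreducibleSpace.1 hU
  haveI : JacobsonSpace U.toScheme := LocallyOfFiniteType.jacobsonSpace U.ι
  let j : (i ⁻¹ᵁ U).toScheme ⟶ X := (i ⁻¹ᵁ U).ι ≫ W.ι
  haveI : IsLocallyNoetherian (i ⁻¹ᵁ U).toScheme := LocallyOfFiniteType.isLocallyNoetherian j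
  let F' := (Scheme.Modules.pullback j).obj F
  have hF' : Coh.IsCoh F' := ⟨QC.isQCoh_pullback _ hF.1, ModDesc.isFT_pullback j hF.1 hF.2⟩
  have hG : Coh.IsCoh ((Scheme.Modules.pushforward (i ∣_ U)).obj F') := SerrePn.isCoh_push (i ∣_ U) hF'
  have hUreg : ∀ z : U.toScheme, IsRegularLocalRing ↑(U.toScheme.presheaf.stalk z) := fun z => by
    haveI := hPreg (U.ι z)
    exact IsRegularLocalRing.of_ringEquiv (asIso (U.ι.stalkMap z)).commRingCatIsoToRingEquiv
  have hO := (isOpen_of_irreducible U.toScheme (closedDim_of_lft hS huc (U.ι ≫ p)) hUreg _ hG n).preimage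
    (i ∣_ U).continuous
  refine ⟨j '' ((i ∣_ U) ⁻¹' {z | (n : WithBot ℕ∞) ≤ rdepth ((Scheme.Modules.pushforward (i ∣_ U)).obj F') z}), ?_,
    j.isOpenEmbedding.isOpenMap _ hO, ⟨⟨w₀, hxU⟩, ?_, rfl⟩⟩
  · rintro _ ⟨v, hv, rfl⟩
    rw [Set.mem_preimage, Set.mem_ofPred_eq, rdepth_closedImm (i ∣_ U) F' hF', rdepth_openImm hX j F hF] at hv
    exact hv
  · rw [Set.mem_preimage, Set.mem_ofPred_eq, rdepth_closedImm (i ∣_ U) F' hF', rdepth_openImm hX j F hF]
    exact hx

end Groth.Agent.RectDepth
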