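import Groth.Agent.RectDepth.Jacobson
import Groth.Agent.QC.Support

/-!
# The rectified depth as the depth at nearby closed points
-/

set_option autoImplicit false
set_option linter.style.haveILetI false
set_option backward.isDefEq.respectTransparency false

universe u

open CategoryTheory AlgebraicGeometry Topology TopologicalSpace IsLocalRing

namespace Groth.Agent.RectDepth

open Groth.Agent.DimFormula Groth.Agent.Catenary Groth.Agent.Unibranch

variable {X S : Scheme.{u}}

theorem depth_eq_top_iff [IsLocallyNoetherian X] (F : X.Modules) (hF : Coh.IsCoh F) (x : X) :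
    LocCoh.depth (X.presheaf.stalk x) (F.presheaf.stalk x) = ⊤ ↔ Subsingleton (F.presheaf.stalk x) := by
  haveI : Module.Finite (X.presheaf.stalk x) (F.presheaf.stalk x) := RegDual.finite_stalk hF x
  constructor
  · intro h
    by_contra hns
    haveI := not_subsingleton_iff_nontrivial.1 hns
    exact LocH.idealDepth_ne_top (I := maximalIdeal (X.presheaf.stalk x))
      (fun e => top_ne_bot (α := Submodule (X.presheaf.stalk x) (F.presheaf.stalk x))
        (Submodule.eq_bot_of_le_smul_of_le_jacobson_bot _ _ Module.Finite.fg_top e.ge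
          (IsLocalRing.maximalIdeal_le_jacobson _))) h
  · intro h
    rw [LocCoh.depth, LocCoh.idealDepth, if_pos (Subsingleton.elim _ _)]

theorem rectDepth_eq_iff [IsLocallyNoetherian S] [JacobsonSpace S] (hS : ClosedDim S)
    (hreg : ∀ s : S, IsRegularLocalRing ↑(S.presheaf.stalk s)) (g : X ⟶ S) [LocallyOfFiniteType g]
    (F : X.Modules) (hF : Coh.IsCoh F) (x : X) (n : ℕ∞) :
    (∃ U : X.Opens, x ∈ U ∧ ∀ x' : ↥U, (x' : X) ∈ closure ({x} : Set X) → IsClosed ({x'} : Set ↥U) →
      LocCoh.depth ↑(X.presheaf.stalk (x' : X)) ↑(F.presheaf.stalk (x' : X)) = n) ↔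
      ((n : WithBot ℕ∞) = rdepth F x) := by
  haveI : IsLocallyNoetherian X := LocallyOfFiniteType.isLocallyNoetherian g
  haveI : JacobsonSpace X := LocallyOfFiniteType.jacobsonSpace g
  have hX := closedDim_of_lft hS (fun s => @isUniversallyCatenary_of_regular _ _ (hreg s)) g
  obtain ⟨D, hD⟩ := hX x
  let e : ℕ∞ := LocCoh.depth (X.presheaf.stalk x) (F.presheaf.stalk x) + D
  have he : rdepth F x = (e : WithBot ℕ∞) := by
    rw [rdepth, dim_closure hD]
    rfl
  -- at closed points the rectified depth is the depth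
  have hcl : ∀ z : X, IsClosed ({z} : Set X) →
      rdepth F z = ((LocCoh.depth (X.presheaf.stalk z) (F.presheaf.stalk z) : ℕ∞) : WithBot ℕ∞) := fun z hz => by
    haveI : Subsingleton ↥({z} : Set X) := ⟨fun a b => Subtype.ext (a.2.trans b.2.symm)⟩
    haveI : Nonempty (IrreducibleCloseds ↥({z} : Set X)) :=
      ⟨⟨Set.univ, ⟨⟨⟨z, rfl⟩, trivial⟩, Set.subsingleton_univ.isPreirreducible⟩, isClosed_univ⟩⟩
    haveI : Subsingleton (IrreducibleCloseds ↥({z} : Set X)) := ⟨fun a b => IrreducibleCloseds.ext <| by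
      rw [show (a : Set ↥({z} : Set X)) = Set.univ from Subsingleton.eq_univ_of_nonempty a.isIrreducible.nonempty,
        show (b : Set ↥({z} : Set X)) = Set.univ from Subsingleton.eq_univ_of_nonempty b.isIrreducible.nonempty]⟩
    have h0 : topologicalKrullDim ↥(closure ({z} : Set X)) = 0 := by
      rw [hz.closure_eq]
      exact Order.krullDim_eq_zero
    rw [rdepth, h0, add_zero]
  -- a neighbourhood with the right value
  have hgood : ∃ U : X.Opens, x ∈ U ∧ ∀ z ∈ U, z ∈ closure ({x} : Set X) → IsClosed ({z} : Set X) →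
      LocCoh.depth (X.presheaf.stalk z) (F.presheaf.stalk z) = e := by
    rcases eq_or_ne e ⊤ with h | h
    · have hsub : Subsingleton (F.presheaf.stalk x) := (depth_eq_top_iff F hF x).1 (by
        by_contra hne
        exact WithTop.add_ne_top.2 ⟨hne, ENat.natCast_ne_top D⟩ h)
      refine ⟨⟨(CohB1.support F)ᶜ, (QC.isClosed_support hF.2).isOpen_compl⟩, not_not.2 hsub, fun z hz _ _ => ?_⟩
      rw [h, depth_eq_top_iff F hF z]
      exact not_not.1 hz
    · obtain ⟨m, hm⟩ := ENat.ne_top_iff_exists.1 h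
      refine ⟨⟨_, isOpen_le_rdepth hS hreg g F hF m⟩, ?_, fun z hz hzx hzc => le_antisymm ?_ ?_⟩
      · show (m : WithBot ℕ∞) ≤ rdepth F x
        rw [he, ← hm]
        rfl
      · by_contra hlt
        rw [← hm, not_le] at hlt
        have h1 : ((m + 1 : ℕ) : WithBot ℕ∞) ≤ rdepth F z := by
          rw [hcl z hzc]
          refine WithBot.coe_le_coe.2 ?_
          rw [Nat.cast_add, Nat.cast_one]
          exact Order.add_one_le_of_lt hlt
        have h2 := (specializes_iff_mem_closure.2 hzx).mem_open (isOpen_le_rdepth hS hreg g F hF (m + 1)) h1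
        rw [Set.mem_ofPred_eq, he, ← hm] at h2
        have h3 : ((m + 1 : ℕ) : ℕ∞) ≤ (m : ℕ∞) := WithBot.coe_le_coe.1 h2
        have := Nat.cast_le.1 h3
        omega
      · rw [← hm]
        have h1 : (m : WithBot ℕ∞) ≤ rdepth F z := hz
        rw [hcl z hzc] at h1
        exact WithBot.coe_le_coe.1 h1
  obtain ⟨U₀, hxU₀, hU₀⟩ := hgood
  have hclU : ∀ (U : X.Opens) (z : ↥U), IsClosed ({z} : Set ↥U) → IsClosed ({z.1} : Set X) := fun U z hz => by
    exact U.ι.closePoints_subset_preimage_closedPoints (show (z : U.toScheme) ∈ closedPoints U.toScheme from hz)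
  constructor
  · rintro ⟨U, hxU, hU⟩
    obtain ⟨z, ⟨⟨hzU, hzU₀⟩, hzx⟩, hz⟩ := nonempty_inter_closedPoints
      (Z := ((U : Set X) ∩ (U₀ : Set X)) ∩ closure ({x} : Set X)) ⟨x, ⟨hxU, hxU₀⟩, subset_closure rfl⟩
      ((U.2.inter U₀.2).isLocallyClosed.inter isClosed_closure.isLocallyClosed)
    have h1 := hU ⟨z, hzU⟩ hzx (by
      rw [show ({⟨z, hzU⟩} : Set ↥U) = (Subtype.val : ↥U → X) ⁻¹' {z} from Set.ext fun w => Subtype.ext_iff]
      exact (show IsClosed ({z} : Set X) from hz).preimage continuous_subtype_val)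
    rw [he, ← h1, hU₀ z hzU₀ hzx hz]
  · intro hn
    refine ⟨U₀, hxU₀, fun z hzx hz => ?_⟩
    rw [hU₀ z z.2 hzx (hclU U₀ z hz)]
    rw [he] at hn
    exact (WithBot.coe_inj.1 hn).symm

end Groth.Agent.RectDepth
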